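import Groth.Agent.UnramFib.Basic
import Groth.Agent.S6285
import Mathlib.AlgebraicGeometry.Morphisms.LocalFlatDescent
import Mathlib.AlgebraicGeometry.Morphisms.FinitePresentation
import Mathlib.RingTheory.Kaehler.Polynomial

/-!
Scheme input for the trivial locus of a proper space with a section: the unramified locus of an
lfp morphism of affine schemes is a compact open, and a morphism is unramified at the points of a
fibre whose base change to some field is unramified.
-/

set_option autoImplicit false
set_option backward.isDefEq.respectTransparency false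
set_option backward.isDefEq.respectTransparency.types false

universe u

open CategoryTheory CategoryTheory.Limits AlgebraicGeometry

namespace Groth.Agent.TrivLocus

/-- The open where a morphism locally of finite type is unramified. -/
def unrOpen {X Y : Scheme.{u}} (f : X ⟶ Y) [LocallyOfFiniteType f] : X.Opens where
  carrier := {x | (f.stalkMap x).hom.FormallyUnramified}
  is_open' := by
    refine isOpen_iff_forall_mem_open.mpr fun x hx => ?_
    obtain ⟨W, hxW, hW⟩ := (EtStruct.formallyUnramified_nhd_iff f x).mpr hx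
    exact ⟨W, fun y hy => (EtStruct.formallyUnramified_nhd_iff f y).mp ⟨W, hy, hW⟩, W.2, hxW⟩

theorem formallyUnramified_unrOpen {X Y : Scheme.{u}} (f : X ⟶ Y) [LocallyOfFiniteType f] :
    FormallyUnramified ((unrOpen f).ι ≫ f) := by
  refine IsZariskiLocalAtSource.of_iSup_eq_top (P := @FormallyUnramified)
    (fun x : unrOpen f => Classical.choose
      ((EtStruct.formallyUnramified_nhd_iff ((unrOpen f).ι ≫ f) x).mpr
        ((EtStruct.stalkMap_ι_comp_iff f RingHom.FormallyUnramified.respectsIso _ x).mpr x.2)))
    ?_ fun x => ?_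
  · refine top_le_iff.mp fun x _ => TopologicalSpace.Opens.mem_iSup.mpr ⟨x, ?_⟩
    exact (Classical.choose_spec ((EtStruct.formallyUnramified_nhd_iff ((unrOpen f).ι ≫ f) x).mpr
        ((EtStruct.stalkMap_ι_comp_iff f RingHom.FormallyUnramified.respectsIso _ x).mpr x.2))).1
  · exact (Classical.choose_spec ((EtStruct.formallyUnramified_nhd_iff ((unrOpen f).ι ≫ f) x).mpr
        ((EtStruct.stalkMap_ι_comp_iff f RingHom.FormallyUnramified.respectsIso _ x).mpr x.2))).2

theorem isCompact_unrOpen {X Y : Scheme.{u}} (f : X ⟶ Y) [IsAffine X] [IsAffine Y]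
    [LocallyOfFinitePresentation f] : IsCompact (unrOpen f : Set X) := by
  have hU : IsAffineOpen (⊤ : Y.Opens) := isAffineOpen_top Y
  have hV : IsAffineOpen (⊤ : X.Opens) := isAffineOpen_top X
  let e : (⊤ : X.Opens) ≤ f ⁻¹ᵁ ⊤ := le_rfl
  let := (f.appLE ⊤ ⊤ e).hom.toAlgebra
  have : Algebra.FinitePresentation Γ(Y, ⊤) Γ(X, ⊤) :=
    HasRingHomProperty.appLE @LocallyOfFinitePresentation f inferInstance ⟨⊤, hU⟩ ⟨⊤, hV⟩ e
  have hc := (S6285.result Γ(X, ⊤) (KaehlerDifferential Γ(Y, ⊤) Γ(X, ⊤))).2
  have hset : (unrOpen f : Set X) =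
      hV.fromSpec '' (Module.support Γ(X, ⊤) (KaehlerDifferential Γ(Y, ⊤) Γ(X, ⊤)))ᶜ := by
    rw [← Algebra.unramifiedLocus_eq_compl_support]
    ext x
    have hx : x ∈ (⊤ : X.Opens) := trivial
    constructor
    · intro h
      exact ⟨_, (EtStruct.formallyUnramified_stalkMap_iff f hU hV e hx).mp h,
        hV.fromSpec_primeIdealOf ⟨x, hx⟩⟩
    · rintro ⟨p, hp, rfl⟩
      have hq : hV.primeIdealOf ⟨hV.fromSpec p, hx⟩ = p :=
        hV.fromSpec.injective (hV.fromSpec_primeIdealOf ⟨hV.fromSpec p, hx⟩)
      exact (EtStruct.formallyUnramified_stalkMap_iff f hU hV e hx).mpr (by rw [hq]; exact hp)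
  rw [hset]
  exact hc.image hV.fromSpec.continuous

/-- A morphism is unramified at a point over which some base change to a field is unramified. -/
theorem mem_unrOpen_of_field {X Y : Scheme.{u}} (f : X ⟶ Y) [LocallyOfFiniteType f] (x : X)
    {T : Scheme.{u}} (g : T ⟶ Y) (t : T) (ht : g t = f x)
    (h : FormallyUnramified (pullback.snd f (T.fromSpecResidueField t ≫ g))) :
    x ∈ unrOpen f := by
  let r : Spec (T.residueField t) ⟶ Spec (Y.residueField (g t)) := Spec.map (g.residueFieldMap t)
  have hr : r ≫ Y.fromSpecResidueField (g t) = T.fromSpecResidueField t ≫ g :=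
    Scheme.Hom.SpecMap_residueFieldMap_fromSpecResidueField _ _
  have hflat : Flat r := by
    rw [HasRingHomProperty.Spec_iff (P := @Flat)]
    let := (g.residueFieldMap t).hom.toAlgebra
    exact (inferInstance : Module.Flat (Y.residueField (g t)) (T.residueField t))
  have : Surjective r := ⟨fun _ => ⟨IsLocalRing.closedPoint _, Subsingleton.elim _ _⟩⟩
  have hu : FormallyUnramified (f.fiberToSpecResidueField (g t)) := by
    refine MorphismProperty.of_pullback_snd_of_descendsAlong (P := @FormallyUnramified)
      (Q := @Surjective ⊓ @Flat ⊓ @QuasiCompact) (g := r)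
      ⟨⟨inferInstance, hflat⟩, inferInstance⟩ ?_
    let p := (IsPullback.of_hasPullback (f.fiberToSpecResidueField (g t)) r).paste_horiz
      (IsPullback.of_hasPullback f (Y.fromSpecResidueField (g t)))
    rw [hr] at p
    have := p.isoPullback_hom_snd
    rw [← this]
    exact MorphismProperty.RespectsIso.precomp @FormallyUnramified _ _ h
  rw [ht] at hu
  exact UnramFib.stalkMap_formallyUnramified_of_fiber f x hu

end Groth.Agent.TrivLocus
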