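import Groth.Agent.TrivLocus.Scheme
import Groth.Agent.AlgSp.QCMor
import Groth.Agent.AlgSp.NormQf
import Groth.Agent.AlgSp.InfGlue
import Groth.Agent.AlgSp.PointsMor
import Groth.Agent.AlgSp.Diag
import Groth.Agent.StFib.DiagOpen
import Groth.Agent.StFib.Props2

/-!
The locus over which a proper lfp space with a section is just its section is open and
retrocompact.
-/

set_option autoImplicit false
set_option linter.unusedVariables false
set_option backward.isDefEq.respectTransparency false
set_option backward.isDefEq.respectTransparency.types false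

universe u

open CategoryTheory CategoryTheory.Limits AlgebraicGeometry Opposite TopologicalSpace Topology

namespace Groth.Agent.TrivLocus

open _root_.AlgSp

variable {S : Scheme.{u}}

/-- Over `g` the space is just the section. -/
def TrivOn {U : Over S} {A : Sp S} (a : A ⟶ (yon S).obj U) (ε : (yon S).obj U ⟶ A) {T : Over S}
    (g : T ⟶ U) : Prop :=
  ∀ ⦃T' : Over S⦄ (k : T' ⟶ T) (s : (yon S).obj T' ⟶ A),
    s ≫ a = (yon S).map (k ≫ g) → s = (yon S).map (k ≫ g) ≫ ε

theorem TrivOn.comp {U : Over S} {A : Sp S} {a : A ⟶ (yon S).obj U} {ε : (yon S).obj U ⟶ A}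
    {T T₁ : Over S} {g : T ⟶ U} (h : TrivOn a ε g) (k₁ : T₁ ⟶ T) : TrivOn a ε (k₁ ≫ g) :=
  fun T' k s hs => by
    rw [← Category.assoc] at hs ⊢
    exact h _ s hs

theorem isCompact_of_isConstructible {X : Scheme.{u}} [IsAffine X] {s : Set X}
    (hs : IsConstructible s) : IsCompact s := by
  let e := X.isoSpec.hom.homeomorph
  have h := hs.image_of_isOpenEmbedding e.isOpenEmbedding (by rw [e.surjective.range_eq]; exact IsRetrocompact.univ)
  obtain ⟨R, hR, f, hf⟩ := PrimeSpectrum.exists_range_eq_of_isConstructible h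
  have : IsCompact (e '' s) := hf ▸ isCompact_range (PrimeSpectrum.continuous_comap f)
  exact e.isEmbedding.isCompact_iff.2 this

/-- The trivial locus over an affine base. -/
theorem exists_trivLocus_affine {U : Over S} [IsAffine U.left] {A : Sp S} (hA : IsAlgSpace A)
    (a : A ⟶ (yon S).obj U) (ε : (yon S).obj U ⟶ A) (hε : ε ≫ a = 𝟙 _) (hp : IsProperMor a)
    (hlfp : LocP @LocallyOfFinitePresentation a) :
    ∃ V : U.left.Opens, IsCompact (V : Set U.left) ∧
      ∀ {T : Over S} (g : T ⟶ U), TrivOn a ε g ↔ Set.range g.left ⊆ (V : Set U.left) := by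
  classical
  obtain ⟨hsep, hft, huc⟩ := hp
  -- an affine chart
  have hAc : CompactSpace (Points A) := AlgSp.compactSpace_points
    (hft.2 (IsAlgSpace.yon_obj U) (Groth.Agent.AlgSp.isQuasiCompactSp_yon U) (𝟙 _) (𝟙 A) a
      (IsPullback.of_horiz_isIso ⟨by simp⟩))
  obtain ⟨W₀, α₀, hα₀, hα₀s⟩ := hA.atlas
  obtain ⟨W, gW, hW, hα, hαs⟩ := Groth.Agent.AlgSpB.exists_affine_chart_of_compactSpace hα₀ hα₀s
  let α := (yon S).map gW ≫ α₀
  obtain ⟨k, hk⟩ := (yon S).map_surjective (α ≫ a)
  have hkl : LocallyOfFinitePresentation k.left :=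
    hlfp α (𝟙 _) k hα (repWith_id _ U) (by rw [Category.comp_id]; exact hk.symm)
  -- the section in the chart
  obtain ⟨E, q, fst, hE⟩ := hα.1 ε
  obtain ⟨j, rfl⟩ := (yon S).map_surjective fst
  have hqe : Etale q.left := hα.2 _ _ q hE
  have hjk : j ≫ k = q := (yon S).map_injective (by
    rw [Functor.map_comp, hk, ← Category.assoc, hE.w, Category.assoc, hε, Category.comp_id])
  have hjc : IsClosedImmersion j.left :=
    (Groth.Agent.AlgSp.section_mem_of_diagonal (RepWith @IsClosedImmersion) a ε hε hsep).2 _ _ j hE.flip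
  -- the part of the section along which the chart is unramified
  let Ur := unrOpen k.left
  let O : Scheme.Opens E.left := j.left ⁻¹ᵁ Ur
  have hOc : IsCompact (O : Set E.left) :=
    j.left.isCompact_preimage (isCompact_unrOpen k.left)
  let E₀ : Over S := Over.mk (O.ι ≫ E.hom)
  let m : E₀ ⟶ E := Over.homMk O.ι rfl
  have hUr : (@LocallyOfFiniteType ⊓ @FormallyUnramified : MorphismProperty Scheme.{u})
      (Ur.ι ≫ k.left) := ⟨inferInstance, formallyUnramified_unrOpen k.left⟩
  have hje : Etale (j.left ∣_ Ur) := by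
    refine StFib.etale_hasOfPostcompProperty_unramified.of_postcomp (j.left ∣_ Ur) (Ur.ι ≫ k.left)
      hUr ?_
    rw [morphismRestrict_ι_assoc, ← Over.comp_left, hjk]
    infer_instance
  have hmje : Etale (m ≫ j).left := by
    change Etale (O.ι ≫ j.left)
    rw [← morphismRestrict_ι]
    infer_instance
  let β := (yon S).map (m ≫ j) ≫ α
  have hβ : RepWith @Etale β := Groth.Agent.AlgSpB.repWith_etale_map_comp _ hα
  have hβε : β = (yon S).map (m ≫ q) ≫ ε := by
    simp only [β, Functor.map_comp, Category.assoc]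
    exact congrArg (_ ≫ ·) hE.w
  let Ω : Set (Points A) := Set.range (Points.ofPt β)
  have hΩ : IsOpen Ω := (Groth.Agent.AlgSpB.isOpenMap_ofPt hβ).isOpen_range
  have hΩc : IsCompact Ω := by
    have : CompactSpace E₀.left := isCompact_iff_compactSpace.mp hOc
    exact isCompact_range (Points.continuous_ofPt β)
  -- its complement
  have hcl : IsClosedMap (Points.map a) :=
    huc (IsAlgSpace.yon_obj U) (𝟙 _) (𝟙 A) a (IsPullback.of_horiz_isIso ⟨by simp⟩)
  let B : Set U.left := Points.schemeHomeo U ⁻¹' (Points.map a '' Ωᶜ)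
  have hB : IsClosed B := (hcl _ hΩ.isClosed_compl).preimage (Points.schemeHomeo U).continuous
  have hka : ∀ w : W.left, Points.map a (Points.ofPt α w) = Points.schemeHomeo U (k.left w) := by
    intro w
    rw [Points.map_ofPt, ← hk]
    change _ = Points.ofPt (𝟙 _) (k.left w)
    rw [← Groth.Agent.AlgSpB.ofPt_map_comp, Category.comp_id]
  have hBk : B = k.left '' (Points.ofPt α ⁻¹' Ω)ᶜ := by
    ext u
    constructor
    · rintro ⟨P, hP, hPu⟩
      obtain ⟨w, rfl⟩ := Groth.Agent.AlgSpB.surjective_ofPt hαs P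
      exact ⟨w, hP, (Points.schemeHomeo U).injective ((hka w).symm.trans hPu)⟩
    · rintro ⟨w, hw, rfl⟩
      exact ⟨_, hw, hka w⟩
  have hαq : IsQuasiCompactMor α := by
    refine Groth.Agent.AlgSp.isQuasiCompactMor_of_comp (IsAlgSpace.yon_obj W) hA
      (IsAlgSpace.yon_obj U) α a ?_ (Groth.Agent.AlgSp.isQuasiSeparatedMor_of_sep hsep)
    rw [← hk]
    exact Groth.Agent.AlgSp.isQuasiCompactMor_of_repWith (IsAlgSpace.yon_obj U)
      ((repWith_yon_map_iff _ _).2 (inferInstance : QuasiCompact k.left))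
  have hpre : IsCompact (Points.ofPt α ⁻¹' Ω) := by
    have h := (Groth.Agent.AlgSp.isCompact_preimage hA α hαq Ω hΩ hΩc).image
      (Points.schemeHomeo W).symm.continuous
    convert h using 1
    ext w
    rw [Set.mem_image]
    constructor
    · intro hw
      refine ⟨Points.schemeHomeo W w, ?_, (Points.schemeHomeo W).symm_apply_apply w⟩
      change Points.map α (Points.ofScheme W w) ∈ Ω
      rwa [← Points.ofPt_eq_map_ofScheme]
    · rintro ⟨P, hP, rfl⟩
      rw [Set.mem_preimage, Points.ofPt_eq_map_ofScheme]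
      change Points.map α (Points.schemeHomeo W ((Points.schemeHomeo W).symm P)) ∈ Ω
      rwa [Homeomorph.apply_symm_apply]
  have hBc : IsConstructible B := by
    rw [hBk]
    exact k.left.isConstructible_image
      (isConstructible_compl.2 (hpre.isConstructible (hΩ.preimage (Points.continuous_ofPt α))))
  refine ⟨⟨Bᶜ, hB.isOpen_compl⟩, isCompact_of_isConstructible (isConstructible_compl.2 hBc),
    fun {T} g => ⟨fun htriv => ?_, fun hrange => ?_⟩⟩
  · -- a trivial fibre lies in the good open
    rintro _ ⟨t, rfl⟩ hu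
    rw [hBk] at hu
    obtain ⟨w, hw, hwt⟩ := hu
    apply hw
    let K : Over S := Over.mk (T.left.fromSpecResidueField t ≫ T.hom)
    let c : K ⟶ T := Over.homMk (T.left.fromSpecResidueField t) rfl
    let gk : K ⟶ U := c ≫ g
    let P := pullback k.left gk.left
    let P' : Over S := Over.mk (pullback.fst k.left gk.left ≫ W.hom)
    let pr₁ : P' ⟶ W := Over.homMk (pullback.fst k.left gk.left) rfl
    let pr₂ : P' ⟶ K := Over.homMk (pullback.snd k.left gk.left) (by
      change _ = pullback.fst k.left gk.left ≫ W.hom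
      rw [← Over.w k, ← Category.assoc, pullback.condition, Category.assoc, Over.w gk])
    have hP : pr₁ ≫ k = pr₂ ≫ gk := Over.OverMorphism.ext pullback.condition
    have hs : (yon S).map pr₁ ≫ α = (yon S).map (pr₂ ≫ gk) ≫ ε :=
      (htriv.comp c) pr₂ _ (by rw [Category.assoc, ← hk, ← Functor.map_comp, hP])
    obtain ⟨l, hl⟩ := (yon S).map_surjective (hE.lift _ _ hs)
    have hl₁ : l ≫ j = pr₁ := (yon S).map_injective (by rw [Functor.map_comp, hl, hE.lift_fst])
    have hl₂ : l ≫ q = pr₂ ≫ gk := (yon S).map_injective (by rw [Functor.map_comp, hl, hE.lift_snd])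
    have hl₁' : l.left ≫ j.left = pullback.fst k.left gk.left := congrArg (fun x => x.left) hl₁
    have hl₂' : l.left ≫ q.left = pullback.snd k.left gk.left ≫ gk.left :=
      congrArg (fun x => x.left) hl₂
    have hjk' : j.left ≫ k.left = q.left := congrArg (fun x => x.left) hjk
    have sq : IsPullback l.left (pullback.snd k.left gk.left) q.left gk.left := by
      refine IsPullback.of_isLimit' ⟨hl₂'⟩ (PullbackCone.IsLimit.mk hl₂'
        (fun z => pullback.lift (z.fst ≫ j.left) z.snd
          (by rw [Category.assoc, hjk', z.condition]))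
        (fun z => by rw [← cancel_mono j.left, Category.assoc, hl₁', pullback.lift_fst])
        (fun z => pullback.lift_snd _ _ _)
        (fun z n h1 h2 => by
          apply pullback.hom_ext
          · rw [pullback.lift_fst, ← hl₁', ← Category.assoc, h1]
          · rw [pullback.lift_snd, h2]))
    have : Etale (pullback.snd k.left gk.left) := MorphismProperty.of_isPullback sq inferInstance
    have hwu : w ∈ Ur := mem_unrOpen_of_field k.left w g.left t hwt.symm
      (inferInstance : FormallyUnramified (pullback.snd k.left gk.left))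
    obtain ⟨z, hz, -⟩ := Scheme.Pullback.exists_preimage_pullback w
      (IsLocalRing.closedPoint (T.left.residueField t)) (f := k.left) (g := gk.left) (by
        change k.left w = g.left (T.left.fromSpecResidueField t _)
        rw [Scheme.fromSpecResidueField_apply]; exact hwt)
    have hje' : j.left (l.left z) = w := by
      rw [← Scheme.Hom.comp_apply, hl₁']; exact hz
    refine ⟨⟨l.left z, show j.left (l.left z) ∈ Ur by rw [hje']; exact hwu⟩, ?_⟩
    change Points.ofPt ((yon S).map (m ≫ j) ≫ α) _ = _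
    rw [Groth.Agent.AlgSpB.ofPt_map_comp]
    exact congrArg (Points.ofPt α) hje'
  · -- over the good open every section is the neutral one
    intro T' k' s hs
    obtain ⟨P₀, p₂, p₁, hP⟩ := hβ.1 s
    obtain ⟨p₁, rfl⟩ := (yon S).map_surjective p₁
    have he : Etale p₂.left := hβ.2 _ _ p₂ hP
    have : Surjective p₂.left := ⟨fun t => by
      have hmem : Points.ofPt s t ∈ Ω := by
        by_contra hn
        refine hrange ⟨k'.left t, rfl⟩ ⟨_, hn, ?_⟩
        rw [Points.map_ofPt, hs]
        change _ = Points.ofPt (𝟙 _) ((k' ≫ g).left t)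
        rw [← Groth.Agent.AlgSpB.ofPt_map_comp, Category.comp_id]
      obtain ⟨e, he'⟩ := hmem
      obtain ⟨x, -, hx⟩ := (Groth.Agent.AlgSpB.ofPt_eq_ofPt_iff hP e t).1 he'
      exact ⟨x, hx⟩⟩
    have h1 : p₁ ≫ m ≫ q = p₂ ≫ k' ≫ g := (yon S).map_injective (by
      have h2 := congrArg (· ≫ a) hP.w
      simp only [hβε, Category.assoc, hε, hs, Category.comp_id, ← Functor.map_comp] at h2
      exact h2)
    refine Groth.Agent.AlgSp.InfGlue.hom_ext_cover (ι := PUnit.{1}) (fun _ => p₂) (fun _ => he)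
      (fun t => ⟨⟨⟩, p₂.left.surjective t⟩) _ _ fun _ => ?_
    rw [← hP.w, hβε, ← Category.assoc, ← Category.assoc, ← Functor.map_comp, ← Functor.map_comp, h1]

/-- The trivial locus: open, with affine pieces compact. -/
theorem exists_trivLocus {U : Over S} {A : Sp S} (hA : IsAlgSpace A)
    (a : A ⟶ (yon S).obj U) (ε : (yon S).obj U ⟶ A) (hε : ε ≫ a = 𝟙 _) (hp : IsProperMor a)
    (hlfp : LocP @LocallyOfFinitePresentation a) :
    ∃ V : U.left.Opens, QuasiCompact V.ι ∧
      ∀ {T : Over S} (g : T ⟶ U), TrivOn a ε g ↔ Set.range g.left ⊆ (V : Set U.left) := by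
  let V : Set U.left := {u | ∃ (T : Over S) (g : T ⟶ U) (t : T.left), TrivOn a ε g ∧ g.left t = u}
  have key : ∀ O : U.left.Opens, IsAffineOpen O → ∃ VO : Set U.left, IsOpen VO ∧ IsCompact VO ∧
      (O : Set U.left) ∩ V = VO ∧ ∀ {T : Over S} (g : T ⟶ U), Set.range g.left ⊆ VO → TrivOn a ε g := by
    intro O hO
    let UO : Over S := Over.mk (O.ι ≫ U.hom)
    let io : UO ⟶ U := Over.homMk O.ι rfl
    have : IsAffine UO.left := hO
    have hsq := IsPullback.of_hasPullback a ((yon S).map io)
    let ε' : (yon S).obj UO ⟶ pullback a ((yon S).map io) :=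
      pullback.lift ((yon S).map io ≫ ε) (𝟙 _) (by rw [Category.assoc, hε, Category.comp_id, Category.id_comp])
    have hAO := Groth.Agent.AlgSp.isAlgSpace_pullback (IsAlgSpace.yon_obj U) hA (IsAlgSpace.yon_obj UO)
      a ((yon S).map io)
    obtain ⟨VO, hVOc, hVO⟩ := exists_trivLocus_affine hAO (pullback.snd a ((yon S).map io)) ε'
      (pullback.lift_snd _ _ _)
      (StFib.good_proper.bc hA (IsAlgSpace.yon_obj U) hAO (IsAlgSpace.yon_obj UO) a _ _ _ hsq hp)
      ((StFib.good_locP Groth.Agent.AlgSpCov.standard_locallyOfFinitePresentation).bc hA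
        (IsAlgSpace.yon_obj U) hAO (IsAlgSpace.yon_obj UO) a _ _ _ hsq hlfp)
    have hcomp : ∀ {T : Over S} (g : T ⟶ UO),
        TrivOn (pullback.snd a ((yon S).map io)) ε' g ↔ TrivOn a ε (g ≫ io) := by
      intro T g
      constructor
      · intro h T' k s hs
        have := h k (pullback.lift s ((yon S).map (k ≫ g)) (by
          rw [hs, ← Functor.map_comp, Category.assoc])) (pullback.lift_snd _ _ _)
        have h2 := congrArg (· ≫ pullback.fst a ((yon S).map io)) this
        simp only [ε', Category.assoc, pullback.lift_fst] at h2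
        rw [h2, ← Category.assoc, ← Functor.map_comp, Category.assoc]
      · intro h T' k s hs
        have h2 := h k (s ≫ pullback.fst a _) (by
          rw [Category.assoc, pullback.condition, ← Category.assoc, hs, ← Functor.map_comp,
            Category.assoc])
        apply pullback.hom_ext
        · rw [h2]
          simp only [ε', Category.assoc, pullback.lift_fst, Functor.map_comp]
        · rw [hs]
          simp only [ε', Category.assoc, pullback.lift_snd, Category.comp_id]
    have hfac : ∀ {T : Over S} (g : T ⟶ U), Set.range g.left ⊆ (O : Set U.left) →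
        ∃ g' : T ⟶ UO, g' ≫ io = g := fun {T} g hg =>
      ⟨Over.homMk (IsOpenImmersion.lift O.ι g.left (hg.trans O.range_ι.symm.subset)) (by
          change _ ≫ O.ι ≫ U.hom = _
          rw [IsOpenImmersion.lift_fac_assoc, Over.w g]),
        Over.OverMorphism.ext (IsOpenImmersion.lift_fac _ _ _)⟩
    refine ⟨O.ι '' (VO : Set UO.left), O.ι.isOpenEmbedding.isOpenMap _ VO.2, hVOc.image O.ι.continuous, ?_, ?_⟩
    · ext u
      constructor
      · rintro ⟨huO, T, g, t, htriv, rfl⟩
        let T₁ : Over S := Over.mk ((g.left ⁻¹ᵁ O).ι ≫ T.hom)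
        let i₁ : T₁ ⟶ T := Over.homMk (g.left ⁻¹ᵁ O).ι rfl
        obtain ⟨g', hg'⟩ := hfac (i₁ ≫ g) (by rintro _ ⟨x, rfl⟩; exact x.2)
        have := (hVO g').1 ((hcomp g').2 (hg' ▸ htriv.comp i₁))
        refine ⟨g'.left ⟨t, huO⟩, this ⟨_, rfl⟩, ?_⟩
        exact congrArg (fun x : T₁ ⟶ U => x.left ⟨t, huO⟩) hg'
      · rintro ⟨v, hv, rfl⟩
        refine ⟨v.2, Over.mk (VO.ι ≫ UO.hom), Over.homMk VO.ι rfl ≫ io, ⟨v, hv⟩, ?_, rfl⟩
        exact (hcomp _).1 ((hVO _).2 (by rintro _ ⟨x, rfl⟩; exact x.2))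
    · intro T g hg
      obtain ⟨g', rfl⟩ := hfac g (hg.trans (by rintro _ ⟨v, -, rfl⟩; exact v.2))
      refine (hcomp g').1 ((hVO g').2 ?_)
      rintro _ ⟨x, rfl⟩
      obtain ⟨v, hv, hvx⟩ := hg ⟨x, rfl⟩
      exact O.ι.isOpenEmbedding.injective hvx ▸ hv
  choose VO hVOo hVOc hVOeq hVOtriv using key
  have hVopen : IsOpen V := by
    refine isOpen_iff_forall_mem_open.2 fun u hu => ?_
    obtain ⟨O, hO, huO, -⟩ := exists_isAffineOpen_mem_and_subset (x := u) (U := ⊤) trivial
    exact ⟨_, (hVOeq O hO).symm.subset.trans Set.inter_subset_right, hVOo O hO,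
      (hVOeq O hO).subset ⟨huO, hu⟩⟩
  refine ⟨⟨V, hVopen⟩, ?_, fun {T} g => ⟨fun h => ?_, fun hr => ?_⟩⟩
  · rw [quasiCompact_iff_forall_isAffineOpen]
    intro O hO
    refine Scheme.Opens.ι _ |>.isOpenEmbedding.isInducing.isCompact_iff.2 ?_
    change IsCompact (Subtype.val '' (Subtype.val ⁻¹' (O : Set U.left)))
    rw [Set.image_preimage_eq_inter_range, Subtype.range_coe]
    exact (hVOeq O hO).symm ▸ hVOc O hO
  · rintro _ ⟨t, rfl⟩
    exact ⟨T, g, t, h, rfl⟩
  · intro T' k s hs
    let I := {O : U.left.Opens // IsAffineOpen O}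
    let pc : I → Over S := fun i => Over.mk (((k ≫ g).left ⁻¹ᵁ i.1).ι ≫ T'.hom)
    refine Groth.Agent.AlgSp.InfGlue.hom_ext_cover (U := pc)
      (fun i => Over.homMk ((k ≫ g).left ⁻¹ᵁ i.1).ι rfl) (fun i => ?_) (fun x => ?_) _ _ fun i => ?_
    · change Etale ((k ≫ g).left ⁻¹ᵁ i.1).ι
      infer_instance
    · obtain ⟨O, hO, hxO, -⟩ := exists_isAffineOpen_mem_and_subset (x := (k ≫ g).left x) (U := ⊤) trivial
      exact ⟨⟨O, hO⟩, ⟨x, hxO⟩, rfl⟩
    · let ip : pc i ⟶ T' := Over.homMk ((k ≫ g).left ⁻¹ᵁ i.1).ι rfl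
      have htr : TrivOn a ε (ip ≫ k ≫ g) := by
        refine hVOtriv i.1 i.2 _ ?_
        rintro _ ⟨x, rfl⟩
        exact (hVOeq i.1 i.2).subset ⟨x.2, hr ⟨k.left (ip.left x), rfl⟩⟩
      have := htr (𝟙 _) ((yon S).map ip ≫ s) (by
        rw [Category.assoc, hs, ← Functor.map_comp, Category.id_comp])
      rw [this, Category.id_comp, Functor.map_comp, Category.assoc]

end Groth.Agent.TrivLocus
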